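import Cfsg.Agent.Lib.U62End7.Stab
import Cfsg.Agent.Lib.CentResidual33.Sylow

/-!
U6(2), endgame: `z` is central in a Sylow 2-subgroup, also inside a normal subgroup containing it.

The component has odd size, so a Sylow 2-subgroup of its stabiliser may be taken to centralise `z`; as
conjugates of `z` in the stabiliser pull the conjugating element into it, it is a Sylow subgroup of
the whole group.

Owner: helper7 (for helper47).
-/

set_option autoImplicit false
set_option linter.style.haveILetI false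

namespace Cfsg.Agent.Lib.U62End7

open Cfsg.Agent.Lib.U62Cent47 Cfsg.Agent.Lib.U62Recog47

variable {G : Type*} [Group G] {z : G}

theorem exists_sylow_central [Finite G] (h : Host (cls z) z) :
    ∃ S : Sylow 2 G, z ∈ S ∧ ∀ s ∈ S, Commute s z := by
  haveI : Fact (Nat.Prime 2) := ⟨Nat.prime_two⟩
  haveI : Fintype ↥(Om z) := Fintype.ofFinite _
  obtain ⟨P⟩ : Nonempty (Sylow 2 ↥(stab z)) := inferInstance
  letI : MulAction ↥(P : Subgroup ↥(stab z)) ↥(Om z) :=
    { smul := fun g x => ⟨(g.1 : G) * x.1 * (g.1 : G)⁻¹, (g.1.2 _).2 x.2⟩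
      one_smul := fun x => Subtype.ext (by
        show ((1 : ↥(stab z)) : G) * x.1 * ((1 : ↥(stab z)) : G)⁻¹ = x.1
        simp)
      mul_smul := fun g k x => Subtype.ext (by
        show ((g.1 * k.1 : ↥(stab z)) : G) * x.1 * ((g.1 * k.1 : ↥(stab z)) : G)⁻¹ =
          (g.1 : G) * ((k.1 : G) * x.1 * (k.1 : G)⁻¹) * (g.1 : G)⁻¹
        simp [mul_assoc]) }
  have hodd : ¬ 2 ∣ Nat.card ↥(Om z) := by
    rw [Nat.card_coe_set_eq, (main h).2.1]; norm_num
  obtain ⟨x, hx⟩ := P.2.nonempty_fixed_point_of_prime_not_dvd_card (α := ↥(Om z)) hodd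
  obtain ⟨k, hk⟩ := x.2.1
  have hkM : k ∈ stab z := mem_stab_of h (by rw [hk]; exact x.2)
  -- the translate centralising `z`
  set P₀ := P.map ((MulAut.conj k⁻¹).toMonoidHom.comp (stab z).subtype) with hP₀
  have hinj : Function.Injective ((MulAut.conj k⁻¹).toMonoidHom.comp (stab z).subtype) :=
    (MulAut.conj k⁻¹).injective.comp (stab z).subtype_injective
  have hcard : Nat.card P₀ = Nat.card (P : Subgroup ↥(stab z)) :=
    (Nat.card_congr (Subgroup.equivMapOfInjective _ _ hinj).toEquiv).symm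
  have hP₀p : IsPGroup 2 P₀ := P.2.map _
  have hP₀c : ∀ g ∈ P₀, Commute g z := by
    rintro _ ⟨g, hg, rfl⟩
    have hgx : Commute (g : G) x.1 :=
      mul_inv_eq_iff_eq_mul.1 (congrArg Subtype.val (hx ⟨g, hg⟩))
    show Commute (k⁻¹ * (g : G) * k⁻¹⁻¹) z
    have e : k⁻¹ * x.1 * k⁻¹⁻¹ = z := by
      have := conj_undo k z
      rwa [hk] at this
    have := (conj_commute k⁻¹ _ _).2 hgx
    rwa [e] at this
  have hP₀M : P₀ ≤ stab z := fun g hg => cent_le h (om_self h) (hP₀c g hg)
  -- it is maximal among the 2-subgroups of the stabiliser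
  have hmax : ∀ Q : Subgroup G, IsPGroup 2 Q → Q ≤ stab z → P₀ ≤ Q → Q = P₀ := by
    intro Q hQ hQM hle
    refine (Subgroup.eq_of_le_of_card_ge hle ?_).symm
    obtain ⟨R, hR⟩ := (hQ.comap_subtype (K := stab z)).exists_le_sylow
    rw [hcard, P.card_eq_multiplicity, ← R.card_eq_multiplicity, ← Nat.card_congr (Subgroup.subgroupOfEquivOfLe hQM).toEquiv]
    exact Subgroup.card_le_of_le hR
  have hzP : z ∈ P₀ := by
    have hle : Subgroup.zpowers z ≤ Subgroup.normalizer (P₀ : Set G) := by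
      rw [Subgroup.zpowers_le]
      refine Subgroup.mem_normalizer_iff.2 fun w => ⟨fun hw => ?_, fun hw => ?_⟩
      · rwa [conj_fix (hP₀c w hw).symm]
      · have e : z * w * z⁻¹ = w := by
          have := conj_fix (hP₀c _ hw).symm
          exact conj_inj this
        rwa [e] at hw
    have hp : IsPGroup 2 (Subgroup.zpowers z) :=
      IsPGroup.of_card (n := 1) (by rw [Nat.card_zpowers, h.order z h.mem, pow_one])
    have := hmax _ (hP₀p.to_sup_of_normal_left' hp hle)
      (sup_le hP₀M (Subgroup.zpowers_le.2 (om_le_stab h (om_self h)))) le_sup_left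
    rw [← this]
    exact Subgroup.mem_sup_right (Subgroup.mem_zpowers z)
  obtain ⟨S, hS⟩ := hP₀p.exists_le_sylow
  suffices hSP : (S : Subgroup G) ≤ P₀ from ⟨S, hS hzP, fun s hs => hP₀c s (hSP hs)⟩
  by_contra hne
  haveI : Group.IsNilpotent ↥(S : Subgroup G) := S.2.isNilpotent
  have hlt : P₀.subgroupOf S < ⊤ :=
    lt_top_iff_ne_top.2 fun e => hne (Subgroup.subgroupOf_eq_top.1 e)
  obtain ⟨g, hg, hgn⟩ := SetLike.exists_of_lt (Group.normalizerCondition_of_isNilpotent _ hlt)
  have hgM : (g : G) ∈ stab z := mem_stab_of_conj h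
    (hP₀M ((Subgroup.mem_normalizer_iff.1 hg ⟨z, hS hzP⟩).1 hzP))
  have hSM : (S : Subgroup G) ⊓ stab z = P₀ :=
    hmax _ (S.2.to_le inf_le_left) inf_le_right (le_inf hS hP₀M)
  exact hgn (show (g : G) ∈ P₀ from hSM ▸ ⟨g.2, hgM⟩)

/-- a Sylow 2-subgroup centralising `z` meets a normal subgroup in a Sylow 2-subgroup -/
theorem exists_sylow_central_normal [Finite G] (h : Host (cls z) z) (R : Subgroup G) [R.Normal]
    (hz : z ∈ R) : ∃ S : Sylow 2 ↥R, (⟨z, hz⟩ : ↥R) ∈ S ∧ ∀ s ∈ S, Commute s ⟨z, hz⟩ := by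
  haveI : Fact (Nat.Prime 2) := ⟨Nat.prime_two⟩
  obtain ⟨S, hzS, hS⟩ := exists_sylow_central h
  have hi : ¬ 2 ∣ ((S : Subgroup G).subgroupOf R).index := by
    show ¬ 2 ∣ (S : Subgroup G).relIndex R
    rw [← Subgroup.inf_relIndex_right]
    exact CentResidual33.relIndex_inf_normal (N := ⊤) le_top le_top
      (by rw [Subgroup.normalizer_eq_top]) (by rw [Subgroup.relIndex_top_right]; exact S.not_dvd_index)
  exact ⟨(S.2.comap_subtype (K := R)).toSylow hi, hzS,
    fun s hs => Subtype.ext (hS _ hs).eq⟩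

end Cfsg.Agent.Lib.U62End7
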