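import Cfsg.Agent.Lib.U62End7.Pair
import Cfsg.Agent.Lib.U62End7.Sylow
import Cfsg.Agent.Lib.Involutions.StronglyEmbedded
import Cfsg.Agent.Lib.Crit5.Top
import Cfsg.Agent.Lib.Crit59.Rows
import Cfsg.Agent.Lib.Crit8.Prod.KernelMain

/-!
U6(2), endgame: the class is one component.

The conjugates of `z` generate a simple group `R`. Were the stabiliser of the component proper in it,
Aschbacher's criterion would give `R` a strongly embedded subgroup, hence one class of involutions;
but the product of two commuting members is no conjugate of `z`.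

Owner: helper7 (for helper47).
-/

set_option autoImplicit false
set_option linter.style.haveILetI false

namespace Cfsg.Agent.Lib.U62End7

open Cfsg.Agent.Lib.U62Cent47 Cfsg.Agent.Lib.U62Recog47 Cfsg.Agent.Lib.G24

variable {G : Type*} [Group G] {z : G}

/-- the subgroup generated by the conjugates of `z` -/
abbrev top' (z : G) : Subgroup G := Subgroup.normalClosure {z}

theorem mem_top' (z : G) : z ∈ top' z := Subgroup.subset_normalClosure rfl

theorem cls_top' {x : G} (hx : x ∈ cls z) : x ∈ top' z := by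
  obtain ⟨g, rfl⟩ := hx
  exact Subgroup.normalClosure_normal.conj_mem _ (mem_top' z) g

theorem exists_perp (h : Host (cls z) z) : ∃ x, x ∈ perp (cls z) z :=
  ⟨_, h.chart.mem (rv 0) 0 (rv_iso 0)⟩

theorem isSimpleGroup_gen (h : Host (cls z) z) : IsSimpleGroup ↥(gen (cls z) z) := by
  obtain ⟨e⟩ := (main h).2.2.2
  have hF : Fintype.card K4 = 2 ^ 2 := by rw [K4.card_eq]; rfl
  exact e.isSimpleGroup_congr.2
    (Unitary.isSimpleGroup_PSU (F := K4) (q := 2) (n := 6) hF (by norm_num) (by norm_num))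

/-- a non-trivial normal subgroup of the generated group contains `z` -/
theorem mem_of_normal [Finite G] (d : EndData z) (T : Subgroup ↥(top' z)) [hT : T.Normal]
    (hne : T ≠ ⊥) : (⟨z, mem_top' z⟩ : ↥(top' z)) ∈ T := by
  have h := d.host
  set L := gen (cls z) z with hL
  set T₁ := T.map (top' z).subtype with hT₁
  have hn : ∀ r ∈ top' z, ∀ y ∈ T₁, r * y * r⁻¹ ∈ T₁ := by
    rintro r hr _ ⟨y, hy, rfl⟩
    exact ⟨⟨r, hr⟩ * y * ⟨r, hr⟩⁻¹, hT.conj_mem y hy ⟨r, hr⟩, rfl⟩
  have hLR : L ≤ top' z := (Subgroup.closure_le _).2 fun x hx => cls_top' hx.1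
  have hzL : z ∈ L := Subgroup.subset_closure (om_self h)
  by_contra hz
  have hz1 : z ∉ T₁ := fun ⟨y, hy, e⟩ => hz (by
    rwa [show (⟨z, mem_top' z⟩ : ↥(top' z)) = y from Subtype.ext e.symm])
  have hdisj : ∀ y : G, y ∈ L → y ∈ T₁ → y = 1 := by
    haveI := isSimpleGroup_gen h
    haveI hN : (T₁.subgroupOf L).Normal := ⟨fun y hy r => hn r (hLR r.2) y hy⟩
    rcases hN.eq_bot_or_eq_top with e | e
    · intro y hy hy1
      have h1 : (⟨y, hy⟩ : ↥L) ∈ T₁.subgroupOf L := hy1
      rw [e, Subgroup.mem_bot] at h1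
      exact congrArg Subtype.val h1
    · exact absurd (show (⟨z, hzL⟩ : ↥L) ∈ T₁.subgroupOf L from e ▸ Subgroup.mem_top _) hz1
  have hTR : T₁ ≤ top' z := Subgroup.map_subtype_le _
  have hfree : ∀ y ∈ T₁, y ∈ stab z → y = 1 := by
    intro y hy hyM
    have hc : ∀ l ∈ Om z, Commute y l := fun l hl => by
      suffices h0 : y * l * y⁻¹ * l⁻¹ = (1 : G) from
        (mul_inv_eq_iff_eq_mul.1 (mul_inv_eq_one.1 h0) : y * l = l * y)
      refine hdisj (y * l * y⁻¹ * l⁻¹) ?_ ?_
      · exact mul_mem (Subgroup.subset_closure ((hyM l).2 hl))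
          (inv_mem (Subgroup.subset_closure hl))
      · rw [show y * l * y⁻¹ * l⁻¹ = y * (l * y⁻¹ * l⁻¹) by group]
        exact mul_mem hy (hn l (cls_top' hl.1) _ (inv_mem hy))
    rcases h.kernel y (hc z (om_self h)) (fun l hl => hc l (om_perp hl)) with e | e
    · exact e
    · exact absurd (e ▸ hy) hz1
  obtain ⟨x, hx⟩ := exists_perp h
  have i₀ := inverts_of_fixedFree (O := T₁) (h.sq h.mem) (hn z (mem_top' z))
    fun y hy hc => hfree y hy (cent_le h (om_self h) hc.symm)
  have i₁ := inverts_of_fixedFree (O := T₁) (h.sq hx.1) (hn x (cls_top' hx.1))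
    fun y hy hc => hfree y hy (cent_le h (om_perp hx) hc.symm)
  refine hne ((Subgroup.map_eq_bot_iff_of_injective _ (top' z).subtype_injective).1
    ((Subgroup.eq_bot_iff_forall _).2 fun y hy => hfree y hy (cent_pair h d.odd_free hx ?_)))
  have e : z * x * y * (z * x)⁻¹ = y := by
    rw [show z * x * y * (z * x)⁻¹ = z * (x * y * x⁻¹) * z⁻¹ by group, i₁ y hy,
      i₀ _ (inv_mem hy), inv_inv]
  exact (mul_inv_eq_iff_eq_mul.1 e).symm

/-- the conjugates of `z` generate a simple group -/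
theorem isSimpleGroup_top [Finite G] (d : EndData z) : IsSimpleGroup ↥(top' z) := by
  haveI : Nontrivial ↥(top' z) := by
    rw [Subgroup.nontrivial_iff_ne_bot]
    intro e
    have : z = 1 := Subgroup.mem_bot.1 (e ▸ mem_top' z)
    simpa [this] using d.host.order z d.host.mem
  refine ⟨fun T hT => or_iff_not_imp_left.2 fun hne => ?_⟩
  have hall : ∀ g : G, ∀ hg : g * z * g⁻¹ ∈ top' z, (⟨g * z * g⁻¹, hg⟩ : ↥(top' z)) ∈ T := by
    intro g hg
    set φ : MulAut ↥(top' z) := MulAut.conjNormal g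
    haveI : (T.comap φ.toMonoidHom).Normal := hT.comap _
    have hne' : T.comap φ.toMonoidHom ≠ ⊥ := fun e => hne (by
      rw [← Subgroup.map_comap_eq_self_of_surjective (f := φ.toMonoidHom) φ.surjective T, e,
        Subgroup.map_bot])
    have h1 : φ ⟨z, mem_top' z⟩ ∈ T := mem_of_normal d _ hne'
    rwa [show φ ⟨z, mem_top' z⟩ = ⟨g * z * g⁻¹, hg⟩ from
      Subtype.ext (MulAut.conjNormal_apply g _)] at h1
  have hle : ∀ y : G, y ∈ top' z → y ∈ T.map (top' z).subtype := by
    intro y hy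
    refine (Subgroup.closure_le _).2 ?_ hy
    intro c hc
    obtain ⟨w, hw, hwc⟩ := Group.mem_conjugatesOfSet_iff.1 hc
    obtain rfl : w = z := hw
    obtain ⟨g, rfl⟩ := isConj_iff.1 hwc
    exact ⟨⟨_, cls_top' ⟨g, rfl⟩⟩, hall g _, rfl⟩
  refine eq_top_iff.2 fun y _ => ?_
  obtain ⟨y', hy', e⟩ := hle y.1 y.2
  rwa [← Subtype.ext (e : (y' : G) = y)]

/-- the class is the component -/
theorem cls_eq [Finite G] (d : EndData z) : cls z = Om z := by
  have h := d.host
  refine Set.Subset.antisymm (fun y hy => ?_) fun y hy => hy.1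
  refine om_of_mem_stab h hy ?_
  haveI := isSimpleGroup_top d
  set R := top' z
  by_contra hyM
  have hne : (stab z).subgroupOf R ≠ ⊤ := fun e =>
    hyM (Subgroup.subgroupOf_eq_top.1 e (cls_top' hy))
  have hz2 : orderOf (⟨z, mem_top' z⟩ : ↥R) = 2 :=
    (Subgroup.orderOf_mk _ _).trans (h.order z h.mem)
  obtain ⟨H, hH⟩ := Lib.Crit59.Rows.r1175 Lib.Crit5.Top.propCore Lib.Crit8.propKernel
    ((stab z).subgroupOf R) hne ⟨z, mem_top' z⟩ hz2 (om_le_stab h (om_self h))
    (exists_sylow_central_normal h R (mem_top' z))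
    (fun g hg => mem_stab_of_conj h (g := (g : G)) hg)
    (fun g hc hn' a ha => by
      have hc' : Commute z ((g : G) * z * (g : G)⁻¹) := congrArg Subtype.val hc.eq
      have hp := mem_perp_of_commute (z := z) ⟨(g : G), rfl⟩ hc' fun e => hn' (Subtype.ext e)
      exact cent_pair h d.odd_free hp
        (congrArg Subtype.val (Subgroup.mem_centralizer_singleton_iff.1 ha)))
  obtain ⟨x, hx⟩ := exists_perp h
  have hxR := cls_top' hx.1
  have hu : orderOf (⟨z, mem_top' z⟩ * ⟨x, hxR⟩ : ↥R) = 2 := by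
    rw [← Subgroup.orderOf_coe]
    show orderOf (z * x) = 2
    refine orderOf_eq_prime_iff.2 ⟨?_, fun e => hx.2.1 ?_⟩
    · rw [pow_two, mul_assoc, ← mul_assoc x z, hx.2.2.eq.symm, mul_assoc z x, h.sq hx.1, mul_one,
        h.sq h.mem]
    · rw [eq_inv_of_mul_eq_one_right e, h.inv_eq h.mem]
  obtain ⟨c, hc⟩ := isConj_iff.1
    (Lib.Involutions.StronglyEmbedded.isConj_involutions hH hz2 hu)
  exact no_pair h hx ⟨(c : G), congrArg Subtype.val hc⟩

/-- the endgame -/
theorem main [Finite G] (d : EndData z) : EndConclusion z := by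
  refine ⟨cls_eq d, ?_⟩
  rw [cls_eq d]
  exact (Cfsg.Agent.Lib.U62Recog47.main d.host).2.2.2

end Cfsg.Agent.Lib.U62End7
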