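import Cfsg.Agent.Lib.U62End7.Stab

/-!
U6(2), endgame: the five members on a totally isotropic line have product one.

Read in the model of transvections: the five points of the line through `a` and `b` are `a` and
`b + l a`, and the transvections at them compose to the identity.

Owner: helper7 (for helper47).
-/

set_option autoImplicit false
set_option linter.constructorNameAsVariable false

namespace Cfsg.Agent.Lib.U62End7

open Cfsg.Agent.Lib.U62Cent47 Cfsg.Agent.Lib.U62Recog47 Cfsg.Agent.Lib.G24 Cfsg.Agent.Lib.CosetEnum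

variable {G : Type*} [Group G]

theorem herm_add_smul_right (l : K4) (x b a : Fin 6 → K4) :
    U62.herm x (b + l • a) = U62.herm x b + l * l * U62.herm x a := by
  have key : ∀ p q l : K4, (p + l * q) ^ 2 = p ^ 2 + l * l * q ^ 2 := by decide +kernel
  rw [U62.herm_swap x (b + l • a), herm_add_smul, key, ← U62.herm_swap, ← U62.herm_swap]

theorem line_iso {a b : Fin 6 → K4} (ha : U62.herm a a = 0) (hb : U62.herm b b = 0)
    (hab : U62.herm a b = 0) (l m : K4) : U62.herm (b + l • a) (b + m • a) = 0 := by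
  have hba : U62.herm b a = 0 := by rw [U62.herm_swap, hab, zero_pow two_ne_zero]
  rw [herm_add_smul, herm_add_smul_right, herm_add_smul_right, hb, hba, hab, ha]
  simp

/-- the representative of the point of an isotropic vector gives the same transvection -/
theorem exists_rep_trans {v : Fin 6 → K4} (hv : v ≠ 0) (h0 : U62.herm v v = 0) :
    ∃ k : Fin 693, (∃ c : K4, c ≠ 0 ∧ c • U62.pv k.1 = v) ∧
      ∀ x, U62.herm x (U62.pv k.1) • U62.pv k.1 = U62.herm x v • v := by
  obtain ⟨hlt, c, hc, e⟩ := U62.cover v hv h0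
  refine ⟨⟨_, hlt⟩, ⟨c, hc, e⟩, fun x => ?_⟩
  have h1 := herm_smul2 1 c x (U62.pv (U62.ptV v))
  rw [one_smul, one_mul, e] at h1
  have key : ∀ c t : K4, c ≠ 0 → t = c * c * t * c := by decide +kernel
  show U62.herm x (U62.pv (U62.ptV v)) • U62.pv (U62.ptV v) = U62.herm x v • v
  conv_rhs => arg 2; rw [← e]
  rw [h1, smul_smul, ← key _ _ hc]

/-- in the model, the transvections at the five points of a line compose to the identity -/
theorem trans_line {a b : Fin 693} (hab : U62.herm (U62.pv a.1) (U62.pv b.1) = 0)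
    (k₁ k₂ k₃ : Fin 693)
    (h₁ : ∀ x, U62.herm x (U62.pv k₁.1) • U62.pv k₁.1 =
      U62.herm x (U62.pv b.1 + (1 : K4) • U62.pv a.1) • (U62.pv b.1 + (1 : K4) • U62.pv a.1))
    (h₂ : ∀ x, U62.herm x (U62.pv k₂.1) • U62.pv k₂.1 =
      U62.herm x (U62.pv b.1 + K4.w • U62.pv a.1) • (U62.pv b.1 + K4.w • U62.pv a.1))
    (h₃ : ∀ x, U62.herm x (U62.pv k₃.1) • U62.pv k₃.1 =
      U62.herm x (U62.pv b.1 + K4.v • U62.pv a.1) • (U62.pv b.1 + K4.v • U62.pv a.1)) :
    U62.trans (U62.pv a.1) (U62.pv_iso a) * U62.trans (U62.pv b.1) (U62.pv_iso b) *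
      U62.trans (U62.pv k₁.1) (U62.pv_iso k₁) * U62.trans (U62.pv k₂.1) (U62.pv_iso k₂) *
      U62.trans (U62.pv k₃.1) (U62.pv_iso k₃) = 1 := by
  have hp : U62.herm (U62.pv a.1) (U62.pv a.1) = 0 := U62.pv_iso a
  have hq : U62.herm (U62.pv b.1) (U62.pv b.1) = 0 := U62.pv_iso b
  have hqp : U62.herm (U62.pv b.1) (U62.pv a.1) = 0 := by
    rw [U62.herm_swap, hab, zero_pow two_ne_zero]
  have hl : ∀ l m : K4, U62.herm (U62.pv b.1 + l • U62.pv a.1) (U62.pv b.1 + m • U62.pv a.1) = 0 :=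
    line_iso hp hq hab
  have hlp : ∀ l : K4, U62.herm (U62.pv b.1 + l • U62.pv a.1) (U62.pv a.1) = 0 :=
    fun l => by rw [herm_add_smul, hqp, hp]; simp
  have hlq : ∀ l : K4, U62.herm (U62.pv b.1 + l • U62.pv a.1) (U62.pv b.1) = 0 :=
    fun l => by rw [herm_add_smul, hq, hab]; simp
  apply Subtype.ext
  apply Subtype.ext
  apply Matrix.toLin'.injective
  refine LinearMap.ext fun x => ?_
  simp only [Subgroup.coe_mul, Matrix.SpecialLinearGroup.coe_mul, Subgroup.coe_one,
    Matrix.SpecialLinearGroup.coe_one, Matrix.toLin'_apply, Matrix.one_mulVec,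
    ← Matrix.mulVec_mulVec]
  simp only [U62.trans_mulVec, h₁, h₂, h₃]
  simp only [herm_add_smul, hl, hlp, hlq, hqp, mul_zero, add_zero]
  simp only [herm_add_smul_right]
  funext i
  simp only [Pi.add_apply, Pi.smul_apply, smul_eq_mul]
  have key : ∀ A B s t u : K4, u + (B + K4.v * K4.v * A) * (t + K4.v * s) +
      (B + K4.w * K4.w * A) * (t + K4.w * s) + (B + 1 * 1 * A) * (t + 1 * s) + B * t + A * s = u := by
    decide +kernel
  exact key _ _ _ _ _

variable {z : G} (h : Host (cls z) z)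

include h in
/-- a member commuting with `z` lies with it and three others in a product equal to one -/
theorem exists_five {x : G} (hx : x ∈ perp (cls z) z) :
    ∃ m₁ m₂ m₃ : G, (∀ m, m = m₁ ∨ m = m₂ ∨ m = m₃ → m ∈ Om z ∧ Commute m z ∧ Commute m x) ∧
      z * x * m₁ * m₂ * m₃ = 1 := by
  obtain ⟨el, hinj, hrange, hcomm, e, he⟩ := exists_model h
  obtain ⟨i, hi⟩ : z ∈ Set.range el := hrange ▸ om_self h
  obtain ⟨j, hj⟩ : x ∈ Set.range el := hrange ▸ om_perp hx
  have hij : U62.herm (U62.pv i.1) (U62.pv j.1) = 0 := (hcomm i j).1 (hi ▸ hj ▸ hx.2.2)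
  have hne : ∀ l : K4, U62.pv j.1 + l • U62.pv i.1 ≠ 0 := fun l e0 => by
    have e1 : U62.pv j.1 = l • U62.pv i.1 := by
      funext k
      have := congrFun e0 k
      simp only [Pi.add_apply, Pi.smul_apply, smul_eq_mul, Pi.zero_apply] at this ⊢
      have key : ∀ a b : K4, a + b = 0 → a = b := by decide
      exact key _ _ this
    have hl : l ≠ 0 := fun e2 => U62.pv_ne j (by rw [e1, e2, zero_smul])
    have h1 := U62.ptV_smul j 1 one_ne_zero
    rw [one_smul, e1, U62.ptV_smul i l hl] at h1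
    exact hx.2.1 (by rw [← hj, ← hi, Fin.ext h1])
  have hiso : ∀ l : K4, U62.herm (U62.pv j.1 + l • U62.pv i.1) (U62.pv j.1 + l • U62.pv i.1) = 0 :=
    fun l => line_iso (U62.pv_iso i) (U62.pv_iso j) hij l l
  obtain ⟨k₁, c₁, h₁⟩ := exists_rep_trans (hne 1) (hiso 1)
  obtain ⟨k₂, c₂, h₂⟩ := exists_rep_trans (hne K4.w) (hiso K4.w)
  obtain ⟨k₃, c₃, h₃⟩ := exists_rep_trans (hne K4.v) (hiso K4.v)
  have hmem : ∀ k, el k ∈ gen (cls z) z := fun k => Subgroup.subset_closure (hrange.subset ⟨k, rfl⟩)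
  have good : ∀ (l : K4) (k : Fin 693),
      (∃ c : K4, c ≠ 0 ∧ c • U62.pv k.1 = U62.pv j.1 + l • U62.pv i.1) →
      el k ∈ Om z ∧ Commute (el k) z ∧ Commute (el k) x := by
    rintro l k ⟨c, hc, ek⟩
    refine ⟨hrange.subset ⟨k, rfl⟩, hi ▸ (hcomm k i).2 ?_, hj ▸ (hcomm k j).2 ?_⟩
    · have := congrArg (fun v => U62.herm v (U62.pv i.1)) ek
      simp only [herm_smul_left, herm_add_smul] at this
      rw [U62.pv_iso i, U62.herm_swap (U62.pv j.1), hij] at this
      simpa [hc] using this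
    · have := congrArg (fun v => U62.herm v (U62.pv j.1)) ek
      simp only [herm_smul_left, herm_add_smul] at this
      rw [U62.pv_iso j, hij] at this
      simpa [hc] using this
  refine ⟨el k₁, el k₂, el k₃, ?_, ?_⟩
  · rintro m (rfl | rfl | rfl)
    exacts [good _ _ c₁, good _ _ c₂, good _ _ c₃]
  have hprod : e (⟨el i, hmem i⟩ * ⟨el j, hmem j⟩ * ⟨el k₁, hmem k₁⟩ * ⟨el k₂, hmem k₂⟩ *
      ⟨el k₃, hmem k₃⟩) = 1 := by
    simp only [map_mul, he]
    rw [← QuotientGroup.mk_mul, ← QuotientGroup.mk_mul, ← QuotientGroup.mk_mul,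
      ← QuotientGroup.mk_mul, trans_line hij k₁ k₂ k₃ h₁ h₂ h₃, QuotientGroup.mk_one]
  have := congrArg Subtype.val ((map_eq_one_iff e e.injective).1 hprod)
  simpa [hi, hj] using this

end Cfsg.Agent.Lib.U62End7
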