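import Cfsg.Agent.Lib.U62End7.Line
import Cfsg.Agent.Lib.ZStar.Consequences
import Cfsg.Agent.Lib.ZStar.StronglyClosed

/-!
U6(2), endgame: the centraliser of the product of two commuting members stabilises the component.

With `u = z x` the image of `z` is an isolated involution of `C(u) / ⟨u⟩`; what remains above the odd
core is a normal subgroup `O` of odd order, inverted by the members commuting with `z` and `x`, and
five of these have product one, so `O` is trivial.

Owner: helper7 (for helper47).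
-/

set_option autoImplicit false
set_option linter.style.haveILetI false

namespace Cfsg.Agent.Lib.U62End7

open Cfsg.Agent.Lib.U62Cent47 Cfsg.Agent.Lib.U62Recog47

variable {G : Type*} [Group G]

theorem mem_zpowers_invol {u n : G} (hu : u * u = 1) (hn : n ∈ Subgroup.zpowers u) :
    n = 1 ∨ n = u := by
  obtain ⟨k, rfl⟩ := Subgroup.mem_zpowers_iff.1 hn
  rcases Int.even_or_odd k with ⟨j, rfl⟩ | ⟨j, rfl⟩
  · left; rw [← two_mul, zpow_mul, zpow_two, hu, one_zpow]
  · right; rw [zpow_add, zpow_mul, zpow_two, hu, one_zpow, one_mul, zpow_one]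

theorem eq_one_of_sq {O : Subgroup G} (hO : Odd (Nat.card O)) {x : G} (hx : x ∈ O)
    (h2 : x * x = 1) : x = 1 := by
  rw [← orderOf_eq_one_iff]
  exact Nat.eq_one_of_dvd_coprimes (Nat.coprime_two_left.mpr hO)
    (orderOf_dvd_of_pow_eq_one (by rw [pow_two, h2])) (Subgroup.orderOf_dvd_natCard O hx)

/-- above the odd core of the quotient by a central involution sits a normal complement -/
theorem exists_odd_complement [Finite G] {u : G} (hu : orderOf u = 2)
    (hcen : ∀ g, Commute g u) [(Subgroup.zpowers u).Normal] :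
    ∃ O : Subgroup G, O.Normal ∧ Odd (Nat.card O) ∧
      ∀ n, QuotientGroup.mk' (Subgroup.zpowers u) n ∈ Cfsg.oddCore (G ⧸ Subgroup.zpowers u) →
        n ∈ O ∨ u * n ∈ O := by
  set U := Subgroup.zpowers u with hU
  set N := (Cfsg.oddCore (G ⧸ U)).comap (QuotientGroup.mk' U) with hN
  have huu : u * u = 1 := by rw [← pow_two, ← hu, pow_orderOf_eq_one]
  have hUN : U ≤ N := by
    intro x hx
    rw [hN, Subgroup.mem_comap, show QuotientGroup.mk' U x = 1 from (QuotientGroup.eq_one_iff x).2 hx]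
    exact one_mem _
  haveI hOn : (Cfsg.oddCore (G ⧸ U)).Normal := by unfold Cfsg.oddCore; infer_instance
  haveI : N.Normal := hOn.comap _
  have hcU : Nat.card (U.subgroupOf N) = 2 := by
    rw [Nat.card_congr (Subgroup.subgroupOfEquivOfLe hUN).toEquiv, Nat.card_zpowers, hu]
  have hidx : Odd (U.subgroupOf N).index := by
    show Odd (U.relIndex N)
    conv => arg 1; arg 1; rw [← QuotientGroup.ker_mk' U]
    rw [Subgroup.relIndex_ker, hN,
      Subgroup.map_comap_eq_self_of_surjective (QuotientGroup.mk'_surjective U)]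
    exact ZStar.Elements.oddCore_odd
  obtain ⟨H, hH⟩ := Subgroup.exists_right_complement'_of_coprime (N := U.subgroupOf N)
    (by rw [hcU]; exact Nat.coprime_two_left.2 hidx)
  have hHc : Odd (Nat.card H) := by
    rw [← Subgroup.IsComplement'.index_eq_card (Subgroup.IsComplement'.symm hH)]; exact hidx
  have split : ∀ n : ↥N, n ∈ H ∨ ∃ y ∈ H, (n : G) = u * y := fun n => by
    obtain ⟨⟨⟨v, hv⟩, ⟨y, hy⟩⟩, hvy : v * y = n⟩ := hH.2 n
    rcases mem_zpowers_invol huu (show (v : G) ∈ Subgroup.zpowers u from hv) with e | e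
    · left
      rw [← hvy, show v = 1 from Subtype.ext e, one_mul]; exact hy
    · exact Or.inr ⟨y, hy, by rw [← hvy, Subgroup.coe_mul, e]⟩
  -- the complement consists of the elements of odd order
  have hchar : ∀ n : ↥N, (n : G) ^ Nat.card H = 1 → n ∈ H := fun n hn => by
    refine (split n).resolve_right fun ⟨y, hy, e⟩ => ?_
    have hy1 : (y : G) ^ Nat.card H = 1 := by
      rw [← Subgroup.coe_pow, orderOf_dvd_iff_pow_eq_one.1 (Subgroup.orderOf_dvd_natCard H hy)]
      rfl
    rw [e, (hcen y).symm.mul_pow, hy1, mul_one] at hn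
    obtain ⟨k, hk⟩ := hHc
    rw [hk, pow_succ, pow_mul, pow_two, huu, one_pow, one_mul] at hn
    simp [hn] at hu
  refine ⟨H.map N.subtype, ⟨fun n hn g => ?_⟩, ?_, fun n hn => ?_⟩
  · obtain ⟨y, hy, rfl⟩ := hn
    have hgN : g * (y : G) * g⁻¹ ∈ N := Subgroup.Normal.conj_mem inferInstance _ y.2 g
    refine ⟨⟨_, hgN⟩, hchar _ ?_, rfl⟩
    show (g * (y : G) * g⁻¹) ^ Nat.card H = 1
    rw [conj_pow, ← Subgroup.coe_pow,
      orderOf_dvd_iff_pow_eq_one.1 (Subgroup.orderOf_dvd_natCard H hy)]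
    simp
  · rw [Nat.card_congr (Subgroup.equivMapOfInjective H _ N.subtype_injective).toEquiv.symm]
    exact hHc
  · rcases split ⟨n, hn⟩ with hy | ⟨y, hy, e⟩
    · exact Or.inl ⟨_, hy, rfl⟩
    · refine Or.inr ⟨y, hy, ?_⟩
      show (y : G) = u * n
      rw [show n = u * y from e, ← mul_assoc, huu, one_mul]

/-- an involution without fixed points on a normalised finite subgroup inverts it -/
theorem inverts_of_fixedFree {O : Subgroup G} [Finite O] {m : G} (hm : m * m = 1)
    (hn : ∀ y ∈ O, m * y * m⁻¹ ∈ O) (hf : ∀ y ∈ O, Commute m y → y = 1) :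
    ∀ y ∈ O, m * y * m⁻¹ = y⁻¹ := by
  let φ : ↥O →* ↥O :=
    { toFun := fun y => ⟨m * y.1 * m⁻¹, hn _ y.2⟩
      map_one' := Subtype.ext (by simp)
      map_mul' := fun a b => Subtype.ext (by simp [mul_assoc]) }
  have h1 : MonoidHom.FixedPointFree φ := fun y hy =>
    Subtype.ext (hf _ y.2 (mul_inv_eq_iff_eq_mul.1 (congrArg Subtype.val hy)))
  have h2 : Function.Involutive φ := fun y => Subtype.ext (by
    show m * (m * y.1 * m⁻¹) * m⁻¹ = y.1
    rw [show m * (m * y.1 * m⁻¹) * m⁻¹ = m * m * y.1 * (m * m)⁻¹ by group, hm]; simp)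
  intro y hy
  exact congrArg Subtype.val (congrFun (h1.coe_eq_inv_of_involutive h2) ⟨y, hy⟩)

variable {z : G} (h : Host (cls z) z)

include h in
/-- the centraliser of the product of two commuting members stabilises the component -/
theorem cent_pair [Finite G]
    (hodd : ∀ x ∈ perp (cls z) z, ∀ O : Subgroup G, O ≤ Subgroup.centralizer ({z, x} : Set G) →
      Odd (Nat.card O) →
      Subgroup.centralizer ({z, x} : Set G) ≤ Subgroup.normalizer (O : Set G) → O = ⊥)
    {x : G} (hx : x ∈ perp (cls z) z) {g : G} (hg : Commute g (z * x)) : g ∈ stab z := by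
  have hzz : z * z = 1 := h.sq h.mem
  have hxx : x * x = 1 := h.sq hx.1
  have hzi : z⁻¹ = z := h.inv_eq h.mem
  set u := z * x with hu
  have hxu : x = z * u := by rw [hu, ← mul_assoc, hzz, one_mul]
  have huu : u * u = 1 := by
    rw [hu, mul_assoc, ← mul_assoc x z, hx.2.2.eq.symm, mul_assoc z x, hxx, mul_one, hzz]
  have hu1 : u ≠ 1 := fun e => hx.2.1 (by rw [hxu, e, mul_one])
  have hzu : Commute z u := (Commute.refl z).mul_right hx.2.2
  have hu2 : orderOf u = 2 := orderOf_eq_prime_iff.2 ⟨by rw [pow_two, huu], hu1⟩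
  set K := Subgroup.centralizer ({u} : Set G) with hK
  have hmemK : ∀ k : G, k ∈ K ↔ Commute k u := fun k => Subgroup.mem_centralizer_singleton_iff
  set uK : ↥K := ⟨u, (hmemK u).2 (Commute.refl u)⟩
  set zK : ↥K := ⟨z, (hmemK z).2 hzu⟩
  have huK : orderOf uK = 2 := (Subgroup.orderOf_mk u _).trans hu2
  have hcen : ∀ k : ↥K, Commute k uK := fun k => Subtype.ext ((hmemK k).1 k.2).eq
  haveI hUn : (Subgroup.zpowers uK).Normal := ⟨fun n hn k => by
    obtain ⟨i, rfl⟩ := Subgroup.mem_zpowers_iff.1 hn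
    rw [conj_fix ((hcen k).zpow_right i)]; exact hn⟩
  set q := QuotientGroup.mk' (Subgroup.zpowers uK) with hq
  have hmk : ∀ a b : ↥K, q a = q b → (a : G) = b ∨ (a : G) = b * u := fun a b e => by
    rw [hq, QuotientGroup.mk'_eq_mk'] at e
    obtain ⟨c, hc, e⟩ := e
    rcases mem_zpowers_invol (Subtype.ext huu) hc with rfl | rfl
    · exact Or.inl (by rw [← e, mul_one])
    · exact Or.inr (by rw [← e, Subgroup.coe_mul, mul_assoc, show (uK : G) = u from rfl, huu,
        mul_one])
  -- conjugates of `z` under the centraliser commuting with `z`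
  have hconj : ∀ k : ↥K, Commute z ((k : G) * z * (k : G)⁻¹) →
      (k : G) * z * (k : G)⁻¹ = z ∨ (k : G) * z * (k : G)⁻¹ = x := by
    intro k hc
    by_contra hne
    push Not at hne
    set y := (k : G) * z * (k : G)⁻¹ with hy
    have hku : (k : G) * u * (k : G)⁻¹ = u := conj_fix ((hmemK k).1 k.2)
    have hyp : y ∈ perp (cls z) z := mem_perp_of_commute ⟨k, rfl⟩ hc hne.1
    have hyu : Commute y u := by rw [hy, ← hku]; exact (conj_commute (k : G) z u).2 hzu
    have hyx : Commute y x := by rw [hxu]; exact hc.symm.mul_right hyu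
    refine no_triple h hyp hx hyx hne.2 ?_
    rw [show z * y * x = y * u by rw [hc.eq, mul_assoc]]
    refine ⟨(k : G) * (Classical.choose hx.1), ?_⟩
    have e := Classical.choose_spec hx.1
    rw [show (k : G) * Classical.choose hx.1 * z * ((k : G) * Classical.choose hx.1)⁻¹ =
      (k : G) * (Classical.choose hx.1 * z * (Classical.choose hx.1)⁻¹) * (k : G)⁻¹ by group, e,
      hxu, show (k : G) * (z * u) * (k : G)⁻¹ = y * ((k : G) * u * (k : G)⁻¹) by rw [hy]; group,
      hku]
  have hiso : Cfsg.IsIsolatedInvolution (q zK) := by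
    refine ⟨orderOf_eq_prime_iff.2 ⟨?_, fun e => ?_⟩, fun b hb => ?_⟩
    · rw [← map_pow, show zK ^ 2 = 1 from Subtype.ext (by simp [pow_two, zK, hzz]), map_one]
    · rcases hmk zK 1 (e.trans (map_one q).symm) with e' | e'
      · exact invol_ne h e'
      · have e2 : z = u := by simpa [zK] using e'
        have : x = 1 := by rw [hxu, ← e2, hzz]
        exact invol_ne' h hx this
    obtain ⟨k, rfl⟩ := QuotientGroup.mk'_surjective _ b
    rw [← hq, ← map_inv, ← map_mul, ← map_mul] at hb ⊢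
    set y := (k : G) * z * (k : G)⁻¹ with hy
    rcases hmk (zK * (k * zK * k⁻¹)) (k * zK * k⁻¹ * zK) (by rw [map_mul, map_mul q _ zK]; exact hb.eq)
      with e | e
    · rcases hconj k (by simpa [zK, commute_iff_eq] using e) with e' | e'
      · exact congrArg q (Subtype.ext (by simpa [zK] using e'))
      · rw [hq, QuotientGroup.mk'_eq_mk']
        exact ⟨uK, Subgroup.mem_zpowers _, Subtype.ext (by
          show (k : G) * z * (k : G)⁻¹ * u = z
          rw [e', hxu, mul_assoc, huu, mul_one])⟩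
    exfalso
    have e0 : z * y = y * z * u := by simpa [zK, hy] using e
    have hyy : y * y = 1 := h.sq ⟨k, rfl⟩
    have e1 : y * z * y = x := by
      rw [mul_assoc, e0, hxu]; simp [← mul_assoc, hyy]
    have hyM : y ∈ stab z := mem_stab_of h (by
      rw [inv_eq_of_mul_eq_one_right hyy, e1]; exact om_perp hx)
    have hyO : y ∈ Om z := om_of_mem_stab h ⟨k, rfl⟩ hyM
    have hn : ¬ Commute z y := fun c => hx.2.1 (by
      rw [← e1, mul_assoc, c.eq, ← mul_assoc, hyy, one_mul])
    have hb3 := h.braid_comp (om_self h) hyO hn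
    have e2 : z * y * z = x := (braid_eq hzz hyy hb3).trans e1
    apply hn
    have e3 : y = z * x * z := by
      rw [← e2]; simp only [mul_assoc]; rw [hzz, mul_one, ← mul_assoc, hzz, one_mul]
    rw [e3, mul_assoc, hx.2.2.eq.symm, ← mul_assoc, hzz, one_mul]
    exact hx.2.2
  -- the odd normal subgroup
  obtain ⟨O₀, hO₀n, hO₀c, hO₀⟩ := exists_odd_complement huK hcen
  set O := O₀.map K.subtype with hO
  have hOK : O ≤ K := Subgroup.map_subtype_le _
  have hOc : Odd (Nat.card O) := by
    rw [hO, Nat.card_congr (Subgroup.equivMapOfInjective O₀ _ K.subtype_injective).toEquiv.symm]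
    exact hO₀c
  have hOn : ∀ k ∈ K, ∀ y ∈ O, k * y * k⁻¹ ∈ O := by
    rintro k hk _ ⟨y, hy, rfl⟩
    exact ⟨⟨k, hk⟩ * y * ⟨k, hk⟩⁻¹, hO₀n.conj_mem y hy ⟨k, hk⟩, rfl⟩
  have hOz : ∀ y ∈ O, Commute y z → y = 1 := by
    intro y hy hyz
    have hbot : O ⊓ Subgroup.centralizer ({z} : Set G) = ⊥ := by
      refine hodd x hx _ (fun v hv => Subgroup.mem_centralizer_iff.2 ?_)
        (hOc.of_dvd_nat (Subgroup.card_dvd_of_le inf_le_left)) (fun v hv => ?_)
      · have h1 : Commute v z := Subgroup.mem_centralizer_singleton_iff.1 hv.2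
        rintro _ (rfl | rfl)
        · exact h1.eq.symm
        · rw [hxu]; exact (h1.mul_right ((hmemK v).1 (hOK hv.1))).eq.symm
      · have h1 : Commute v z := (Subgroup.mem_centralizer_iff.1 hv z (Or.inl rfl)).symm
        have h2 : Commute v x := (Subgroup.mem_centralizer_iff.1 hv x (Or.inr rfl)).symm
        have hvK : v ∈ K := (hmemK v).2 (h1.mul_right h2)
        have key : ∀ k ∈ K, Commute k z → ∀ w ∈ O ⊓ Subgroup.centralizer ({z} : Set G),
            k * w * k⁻¹ ∈ O ⊓ Subgroup.centralizer ({z} : Set G) := fun k hk hkz w hw =>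
          ⟨hOn k hk w hw.1, Subgroup.mem_centralizer_singleton_iff.2
            (((hkz.mul_left (Subgroup.mem_centralizer_singleton_iff.1 hw.2)).mul_left
              hkz.inv_left)).eq⟩
        refine Subgroup.mem_normalizer_iff.2 fun w => ⟨key v hvK h1 w, fun hw => ?_⟩
        simpa [mul_assoc] using key v⁻¹ (inv_mem hvK) h1.inv_left _ hw
    exact Subgroup.mem_bot.1 (hbot ▸ ⟨hy, Subgroup.mem_centralizer_singleton_iff.2 hyz.eq⟩)
  have hOM : ∀ y ∈ O, y ∈ stab z → y = 1 := by
    intro y hy hyM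
    set m := y * z * y⁻¹ with hm
    have hmO : m ∈ Om z := (hyM z).2 (om_self h)
    have hmu : Commute m u := by
      rw [hm, ← conj_fix ((hmemK y).1 (hOK hy))]; exact (conj_commute y z u).2 hzu
    have hzm : Commute z m := by
      by_contra hn
      have hxn : ¬ Commute x m := fun c => hn (by
        have hzeq : z = u * x := by rw [hu, mul_assoc, hxx, mul_one]
        rw [hzeq]; exact hmu.symm.mul_left c)
      have hmm : m * m = 1 := h.sq hmO.1
      have b1 := braid_eq hzz hmm (h.braid_comp (om_self h) hmO hn)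
      have b2 := braid_eq hxx hmm (h.braid_comp (om_perp hx) hmO hxn)
      have e : z * m * z = x * m * x := by
        have e' : u * m * u = m := by rw [← hmu.eq, mul_assoc, huu, mul_one]
        rw [hu, hx.2.2.eq] at e'
        calc z * m * z = x * (x * z * m * (z * x)) * x := by
              simp only [mul_assoc]; rw [hxx, mul_one, ← mul_assoc x x, hxx, one_mul]
          _ = x * m * x := by rw [hx.2.2.eq] ; rw [e']
      rw [b1, b2] at e
      exact hx.2.1 (mul_left_cancel (mul_right_cancel e)).symm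
    rcases hconj ⟨y, hOK hy⟩ hzm with e | e
    · exact hOz y hy (mul_inv_eq_iff_eq_mul.1 e)
    · exfalso
      refine hu1 (eq_one_of_sq hOc ?_ huu)
      have h3 : y * (z * y⁻¹ * z⁻¹) ∈ O :=
        mul_mem hy (hOn z ((hmemK z).2 hzu) _ (inv_mem hy))
      rw [show y * (z * y⁻¹ * z⁻¹) = (y * z * y⁻¹) * z⁻¹ by group] at h3
      have e' : y * z * y⁻¹ = x := e
      rw [e', hzi, ← hx.2.2.eq] at h3
      exact h3
  have hinv : ∀ m ∈ Om z, Commute m z → Commute m x → ∀ y ∈ O, m * y * m⁻¹ = y⁻¹ := by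
    intro m hm hmz hmx
    exact inverts_of_fixedFree (h.sq hm.1) (hOn m ((hmemK m).2 (hmz.mul_right hmx)))
      fun y hy hc => hOM y hy (cent_le h hm hc.symm)
  have hbot : ∀ y ∈ O, y = 1 := by
    intro y hy
    obtain ⟨m₁, m₂, m₃, hm, hprod⟩ := exists_five h hx
    have i₀ := hinv z (om_self h) (Commute.refl z) hx.2.2
    have i₁ := hinv x (om_perp hx) hx.2.2.symm (Commute.refl x)
    have hi : ∀ m, m = m₁ ∨ m = m₂ ∨ m = m₃ → ∀ y ∈ O, m * y * m⁻¹ = y⁻¹ := fun m e =>
      hinv m (hm m e).1 (hm m e).2.1 (hm m e).2.2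
    refine eq_one_of_sq hOc hy ?_
    have e : z * x * m₁ * m₂ * m₃ * y * (z * x * m₁ * m₂ * m₃)⁻¹ = y⁻¹ := by
      rw [show z * x * m₁ * m₂ * m₃ * y * (z * x * m₁ * m₂ * m₃)⁻¹ =
        z * (x * (m₁ * (m₂ * (m₃ * y * m₃⁻¹) * m₂⁻¹) * m₁⁻¹) * x⁻¹) * z⁻¹ by group,
        hi m₃ (Or.inr (Or.inr rfl)) y hy, hi m₂ (Or.inr (Or.inl rfl)) _ (inv_mem hy), inv_inv,
        hi m₁ (Or.inl rfl) y hy, i₁ _ (inv_mem hy), inv_inv, i₀ y hy]
    rw [hprod, one_mul, inv_one, mul_one] at e
    exact mul_eq_one_iff_eq_inv.2 e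
  -- every commutator with `z` lies in the centre
  set k : ↥K := ⟨g, (hmemK g).2 hg⟩
  have hc := ZStar.Consequences.isolated_commutator_mem ZStar.StronglyClosed.involutionThm hiso (q k)
  rw [← map_inv, ← map_inv, ← map_mul, ← map_mul, ← map_mul] at hc
  set c := zK * k * zK⁻¹ * k⁻¹
  have hcu : (c : G) = 1 ∨ (c : G) = u := by
    rcases hO₀ c hc with h1 | h1
    · exact Or.inl (hbot _ ⟨c, h1, rfl⟩)
    · right
      have := hbot _ ⟨uK * c, h1, rfl⟩
      exact (eq_inv_of_mul_eq_one_right (this : u * (c : G) = 1)).trans (inv_eq_of_mul_eq_one_right huu)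
  rcases hcu with e | e
  · refine cent_le h (om_self h) ?_
    have e' : z * g * z⁻¹ * g⁻¹ = 1 := e
    exact (mul_inv_eq_iff_eq_mul.1 (mul_inv_eq_one.1 e')).symm
  · refine mem_stab_of h ?_
    have e' : z * g * z⁻¹ * g⁻¹ = u := e
    have e2 : g * z⁻¹ * g⁻¹ = z⁻¹ * u := by rw [← e']; group
    rw [hzi] at e2
    rw [e2, ← hxu]; exact om_perp hx
where
  invol_ne {z : G} (h : Host (cls z) z) (e : z = 1) : False := by simpa [e] using h.order z h.mem
  invol_ne' {z x : G} (h : Host (cls z) z) (hx : x ∈ perp (cls z) z) (e : x = 1) : False := by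
    simpa [e] using h.order x hx.1

end Cfsg.Agent.Lib.U62End7
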