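import Cfsg.Agent.Lib.U62Cent47.Iface
import Cfsg.Agent.Lib.U62Recog47.Main

/-!
U6(2), endgame: the stabiliser of the component and the products of commuting members.

`Om z` is the component of `z` among its conjugates and `stab z` its stabiliser. A conjugate of `z`
lying in the stabiliser lies in the component; hence the product of two, and of three distinct,
pairwise commuting members is no conjugate of `z`.

Owner: helper7 (for helper47).
-/

set_option autoImplicit false
set_option linter.style.haveILetI false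
set_option linter.constructorNameAsVariable false

namespace Cfsg.Agent.Lib.U62End7

open Cfsg.Agent.Lib.U62Cent47 Cfsg.Agent.Lib.U62Recog47 Cfsg.Agent.Lib.G24

variable {G : Type*} [Group G] {z : G}

/-- the component of `z` among its conjugates -/
abbrev Om (z : G) : Set G := comp (cls z) z

/-- the stabiliser of the component -/
def stab (z : G) : Subgroup G where
  carrier := {g | ∀ x, g * x * g⁻¹ ∈ Om z ↔ x ∈ Om z}
  one_mem' := fun x => by simp
  mul_mem' := fun {g k} hg hk x => by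
    rw [show g * k * x * (g * k)⁻¹ = g * (k * x * k⁻¹) * g⁻¹ by group]
    exact (hg _).trans (hk x)
  inv_mem' := fun {g} hg x => by
    have := hg (g⁻¹ * x * g⁻¹⁻¹)
    rw [show g * (g⁻¹ * x * g⁻¹⁻¹) * g⁻¹ = x by group] at this
    exact this.symm

theorem rel_conj {D : Set G} (hD : ∀ g : G, ∀ x ∈ D, g * x * g⁻¹ ∈ D) (g : G) {a x : G}
    (hx : Rel D a x) : Rel D (g * a * g⁻¹) (g * x * g⁻¹) :=
  ⟨hD g x hx.1, hx.2.imp (conj_commute g a x).2
    fun ⟨t, ht, h⟩ => ⟨g * t * g⁻¹, perp_conj hD g ht, (conj_commute g t x).2 h⟩⟩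

/-- the braid relation between two involutions -/
theorem braid_eq {a b : G} (ha : a * a = 1) (hb : b * b = 1) (h : (a * b) ^ 3 = 1) :
    a * b * a = b * a * b := by
  have e : a * b * a * (b * a * b) = 1 := by
    rw [← h]; simp [pow_succ, mul_assoc]
  rw [eq_comm, ← mul_left_cancel_iff (a := a * b * a), e]
  simp [mul_assoc, reassoc_sq ha, reassoc_sq hb, ha]
where
  reassoc_sq {a : G} (ha : a * a = 1) (c : G) : a * (a * c) = c := by
    rw [← mul_assoc, ha, one_mul]

variable (h : Host (cls z) z)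

include h

theorem om_self : z ∈ Om z := ⟨h.mem, Or.inl (Commute.refl z)⟩

omit h in
theorem om_perp {x : G} (hx : x ∈ perp (cls z) z) : x ∈ Om z := ⟨hx.1, Or.inl hx.2.2⟩

omit h in
theorem mem_perp_of_commute {x : G} (hx : x ∈ cls z) (hzx : Commute z x) (hne : x ≠ z) :
    x ∈ perp (cls z) z := ⟨hx, hne, hzx⟩

/-- an element moving `z` into the component stabilises it -/
theorem mem_stab_of {g : G} (hg : g * z * g⁻¹ ∈ Om z) : g ∈ stab z := by
  intro x
  constructor
  · intro hx
    have := rel_conj h.conjD g⁻¹ (h.rel_of hg hx)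
    rwa [conj_undo, conj_undo] at this
  · exact fun hx => h.rel_trans hg (rel_conj h.conjD g hx)

theorem cent_le {x g : G} (hx : x ∈ Om z) (hg : Commute g x) : g ∈ stab z := by
  obtain ⟨k, hk⟩ := hx.1
  have h1 : k ∈ stab z := mem_stab_of h (by rw [hk]; exact hx)
  have h2 : g * k ∈ stab z := mem_stab_of h (by
    rw [show g * k * z * (g * k)⁻¹ = g * (k * z * k⁻¹) * g⁻¹ by group, hk, conj_fix hg]; exact hx)
  simpa using mul_mem h2 (inv_mem h1)

theorem om_le_stab {x : G} (hx : x ∈ Om z) : x ∈ stab z := cent_le h hx (Commute.refl x)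

/-- a conjugate of `z` in the stabiliser lies in the component -/
theorem om_of_mem_stab [Finite G] {y : G} (hy : y ∈ cls z) (hyM : y ∈ stab z) : y ∈ Om z := by
  haveI : Fintype ↥(Om z) := Fintype.ofFinite _
  haveI : Fact (Nat.Prime 2) := ⟨Nat.prime_two⟩
  let f : ↥(Om z) → ↥(Om z) := fun x => ⟨y * x.1 * y⁻¹, (hyM _).2 x.2⟩
  have hf : Function.Involutive f := fun x => Subtype.ext (by
    show y * (y * x.1 * y⁻¹) * y⁻¹ = x.1
    rw [show y * (y * x.1 * y⁻¹) * y⁻¹ = y * y * x.1 * (y * y)⁻¹ by group, h.sq hy]; simp)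
  obtain ⟨x, hx⟩ := Equiv.Perm.exists_fixed_point_of_prime (p := 2) (n := 1)
    (α := ↥(Om z)) (σ := hf.toPerm f) (by
      rw [← Nat.card_eq_fintype_card, Nat.card_coe_set_eq, (main h).2.1]; norm_num) (by
      rw [pow_one, pow_two]; exact Equiv.ext fun x => hf x)
  have hc : Commute y x.1 := mul_inv_eq_iff_eq_mul.1 (congrArg Subtype.val hx)
  exact (main h).1 _ x.2 _ hy hc.symm

theorem mem_stab_of_conj [Finite G] {g : G} (hg : g * z * g⁻¹ ∈ stab z) : g ∈ stab z :=
  mem_stab_of h (om_of_mem_stab h ⟨g, rfl⟩ hg)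

omit h in
/-- a translate `a * x` of `x` by an involution `a` cannot satisfy the braid relation with `v` -/
theorem translate_braid {a x v : G} (ha : a * a = 1) (ha1 : a ≠ 1) (hax : Commute a x)
    (hav : Commute a v) (hxv : (x * v) ^ 3 = 1) (hw : (a * x * v) ^ 3 = 1) : False := by
  rw [mul_assoc, (hax.mul_right hav).mul_pow, hxv, mul_one, pow_succ, pow_two, ha, one_mul] at hw
  exact ha1 hw

/-- the product of two commuting members is no conjugate of `z` -/
theorem no_pair [Finite G] {x : G} (hx : x ∈ perp (cls z) z) : z * x ∉ cls z := by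
  intro hw
  have hwO : z * x ∈ Om z :=
    om_of_mem_stab h hw (mul_mem (om_le_stab h (om_self h)) (om_le_stab h (om_perp hx)))
  obtain ⟨p, c, hp, e⟩ := h.chart.surj x hx
  obtain ⟨q, hq, hpq⟩ := exists_nonorth hp
  have hv := h.chart.mem q 0 hq
  have hxv : ¬ Commute x (h.chart.pt q 0) := fun hc =>
    hpq ((h.chart.comm p q c 0 hp hq).1 (e ▸ hc))
  have hn : ¬ Commute (z * x) (h.chart.pt q 0) := fun hc =>
    hxv (by simpa using hv.2.2.inv_left.mul_left hc)
  exact translate_braid (h.sq h.mem) (fun e1 => by simpa [e1] using h.order z h.mem)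
    hx.2.2 hv.2.2 (e ▸ h.chart.braid p q c 0 hp hq hpq)
    (h.braid_comp hwO (om_perp hv) hn)

/-- the product of three distinct pairwise commuting members is no conjugate of `z` -/
theorem no_triple [Finite G] {x y : G} (hx : x ∈ perp (cls z) z) (hy : y ∈ perp (cls z) z)
    (hxy : Commute x y) (hne : x ≠ y) : z * x * y ∉ cls z := by
  intro hw
  have hzw : Commute z (z * x * y) := ((Commute.refl z).mul_right hx.2.2).mul_right hy.2.2
  have hwO : z * x * y ∈ Om z := (main h).1 z (om_self h) _ hw hzw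
  obtain ⟨p, c, hp, ex⟩ := h.chart.surj x hx
  obtain ⟨r, d, hr, ey⟩ := h.chart.surj y hy
  by_cases hpar : ∃ l : K4, r = l • p
  · obtain ⟨l, rfl⟩ := hpar
    have hl : l ≠ 0 := fun e => hr.1 (by rw [e, zero_smul])
    obtain ⟨d', rfl⟩ : ∃ d', d = l * d' := ⟨l⁻¹ * d, (mul_inv_cancel_left₀ hl d).symm⟩
    rw [h.chart.scale p d' l hp hl] at ey
    have hcd : c ≠ d' := fun e => hne (by rw [ex, ey, e])
    have hwz : z * x * y ≠ z := fun e => hne (by
      rw [mul_assoc, mul_eq_left] at e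
      rw [eq_inv_of_mul_eq_one_left e, h.inv_eq hy.1])
    obtain ⟨q, e, hq, ew⟩ := h.chart.surj _ (mem_perp_of_commute hw hzw hwz)
    obtain ⟨m, rfl⟩ : ∃ m : K4, q = m • p := orth_span hp (v := q) fun t ht htp => by
      have hvz := (h.chart.mem t 0 ht).2.2
      have hvx : Commute (h.chart.pt t 0) x := ex ▸ (h.chart.comm t p 0 c ht hp).2 htp
      have hvy : Commute (h.chart.pt t 0) y := ey ▸ (h.chart.comm t p 0 d' ht hp).2 htp
      exact (h.chart.comm t q 0 e ht hq).1 (ew ▸ (hvz.symm.mul_right hvx).mul_right hvy)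
    have hm : m ≠ 0 := fun e => hq.1 (by rw [e, zero_smul])
    obtain ⟨e', rfl⟩ : ∃ e', e = m * e' := ⟨m⁻¹ * e, (mul_inv_cancel_left₀ hm e).symm⟩
    rw [h.chart.scale p e' m hp hm] at ew
    obtain ⟨s, hs, hps⟩ := exists_nonorth hp
    obtain ⟨k, hk⟩ : ∃ k : K4, k * k * h4 p s = c + d' := by
      have key : ∀ a b : K4, b ≠ 0 → ∃ k : K4, k * k * b = a := by decide
      exact key _ _ hps
    obtain ⟨g, hgz, hg⟩ := h.chart.shift (k • s)
    have hgp : ∀ t, g * h.chart.pt p t * g⁻¹ = h.chart.pt p (t + (c + d')) := fun t => by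
      rw [hg p t hp, h4_smul_right, hk]
    have key : ∀ a b : K4, a + (a + b) = b ∧ b + (a + b) = a ∧ (a + b = 0 → a = b) := by decide
    have hgx : g * x * g⁻¹ = y := by rw [ex, hgp, (key c d').1, ey]
    have hgy : g * y * g⁻¹ = x := by rw [ey, hgp, (key c d').2.1, ex]
    have hgw : g * (z * x * y) * g⁻¹ = z * x * y := by
      rw [show g * (z * x * y) * g⁻¹ = g * z * g⁻¹ * (g * x * g⁻¹) * (g * y * g⁻¹) by group,
        conj_fix hgz, hgx, hgy, mul_assoc, ← hxy.eq, ← mul_assoc]
    rw [ew, hgp] at hgw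
    obtain ⟨l', -, hl', he⟩ := h.chart.inj _ _ _ _ hp hp hgw
    have hl1 : l' = 1 := by
      obtain ⟨i, hi⟩ := Function.ne_iff.1 hp.1
      exact mul_right_cancel₀ hi (by simpa using (congrFun hl' i).symm)
    rw [hl1, one_mul] at he
    exact hcd ((key c d').2.2 (by simpa using he.symm))
  obtain ⟨s, hs, hsr, hsp⟩ : ∃ s, Iso s ∧ h4 s r = 0 ∧ h4 s p ≠ 0 := by
    by_contra hcon
    push Not at hcon
    obtain ⟨l, rfl⟩ := orth_span hr (v := p) fun t ht h1 => hcon t ht h1
    have hl : l ≠ 0 := fun e => hp.1 (by rw [e, zero_smul])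
    exact hpar ⟨l⁻¹, by rw [smul_smul, inv_mul_cancel₀ hl, one_smul]⟩
  have hv := h.chart.mem s 0 hs
  have hvy : Commute (h.chart.pt s 0) y := ey ▸ (h.chart.comm s r 0 d hs hr).2 hsr
  have hps : h4 p s ≠ 0 := fun e => hsp (h4_orth_symm e)
  have hxv : ¬ Commute x (h.chart.pt s 0) := fun hc =>
    hps ((h.chart.comm p s c 0 hp hs).1 (ex ▸ hc))
  have hzy : z * x * y = z * y * x := by rw [mul_assoc, hxy.eq, ← mul_assoc]
  have ha : Commute (z * y) (h.chart.pt s 0) := hv.2.2.mul_left hvy.symm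
  have hn : ¬ Commute (z * y * x) (h.chart.pt s 0) := fun hc =>
    hxv (by simpa [mul_assoc] using ha.inv_left.mul_left hc)
  refine translate_braid ?_ (fun e1 => hy.2.1 ?_) (hx.2.2.mul_left hxy.symm) ha
    (ex ▸ h.chart.braid p s c 0 hp hs hps) (h.braid_comp (hzy ▸ hwO) (om_perp hv) hn)
  · rw [mul_assoc, ← mul_assoc y z, hy.2.2.eq.symm, mul_assoc z y, h.sq hy.1, mul_one, h.sq h.mem]
  · rw [eq_inv_of_mul_eq_one_right e1, h.inv_eq h.mem]

end Cfsg.Agent.Lib.U62End7
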